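import Cfsg.Agent.H948.Ppd.Podd
import Cfsg.Agent.H948.Ppd.PmBase
import Cfsg.Agent.H284.EPO.Pan
import Cfsg.Agent.H568.RIM.Inst

/-!
# The root group data of type `B_3` of `PΩ_7(q)` and `PΩ⁻_8(q)`, with the additional facts for the exceptional primes (S4816)

* `Dat3 S r q z` : root group datum of type `B_3` with commutative torus, `SL_2` at the nodes, commuting root groups of
  `e₁ + e₂` and `e₁ - e₂`;
* `dat_odd`, `dat_minus`.
-/

set_option autoImplicit false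
set_option linter.unusedSectionVars false
set_option linter.style.haveILetI false

namespace Cfsg.Agent.H568.RIM

open QuadraticMap
open CoxeterSystem Cfsg.Agent.ChevalleyStructure.CoxeterGeom Cfsg.Agent.Tits.Roots Cfsg.Agent.Tits.Core
  Cfsg.Agent.Nodes.Reps Cfsg.Agent.Nodes.BNOf Cfsg.Agent.Nodes.Bruhat Cfsg.Agent.Nodes.RGDLib
open Cfsg.Agent.Nodes Cfsg.Agent.Nodes.WittRoot Cfsg.Agent.Nodes.WittRGD Cfsg.Agent.Nodes.WittAll Cfsg.Agent.Nodes.WittInst
open Cfsg.Agent.Nodes.TypeC (isCartan ee wt ng ee_sr ee_injective Ok bt)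
open Cfsg.Agent.TitsThree.Siegel Cfsg.Agent.TitsThree.SiegelGen Cfsg.Agent.TitsThree.WittFrame Cfsg.Agent.TitsThree.FrameCN
  Cfsg.Agent.TitsThree.WBridge Cfsg.Agent.TitsThree.KSideO Cfsg.Agent.TitsThree Cfsg.Agent.TitsThree.StdData
open Cfsg.Agent.LieClassical Cfsg.Agent.LieClassical.OrthCore Cfsg.Agent.LieClassical.OrthTrans
open Cfsg.Agent.LieClassical.OrthSimple Cfsg.Agent.LieClassical.OrthFinite Cfsg.Agent.LieClassical.OrthForms
open Cfsg.Agent.H948.Ppd Cfsg.Agent.H948.Ppd.Minus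
open Cfsg.Agent.H911.SLTwo
open Cfsg
open scoped MatrixGroups commutatorElement

universe u

/-- a root group datum of type `B_3` with `|X_0| = |X_1| = q`, `|X_2| = z` and the additional facts -/
def Dat3 (S : Type u) [Group S] (r q z : ℕ) : Prop :=
  ∃ (T : Subgroup S) (n : Fin 3 → S) (X : (Fin 3 → ℤ) → Subgroup S),
    RGD (CoxeterMatrix.B 3).toCoxeterSystem (isCartan 3) r T n X ∧ Finite (CoxeterMatrix.B 3).Group ∧
    GG (CoxeterMatrix.B 3).toCoxeterSystem (isCartan 3) T X = ⊤ ∧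
    (∀ i : Fin 3, (i : ℕ) + 1 < 3 → Nat.card (X (sr i)) = q) ∧ (∀ i : Fin 3, (i : ℕ) + 1 = 3 → Nat.card (X (sr i)) = z) ∧
    (∀ s ∈ T, ∀ t ∈ T, s * t = t * s) ∧
    (∀ i, ∃ (E : Type) (_ : Field E) (_ : Finite E) (_ : CharP E r) (σ : SL(2, E) →* S), Nd T X i σ) ∧
    ∀ x ∈ X ![1, 2, 1], ∀ y ∈ X (sr 0), x * y = y * x

section model

variable {F : Type*} [Field F] {V : Type*} [AddCommGroup V] [Module F V] {H : HForm F V} {n : ℕ}
  {Fr : Frame H (Fin n)} {K : Type*} [Group K] (M : Model Fr K)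

/-- `SL_2` at the nodes in the image -/
theorem nd_map {i : Fin n} {E : Type*} [Field E] {σ : SL(2, E) →* M.I}
    (N : Nd ((Tor Fr M.I).subgroupOf M.I) (fun x => (WittRoot.rg Fr x).subgroupOf M.I) i σ) :
    Nd (WittModel.T M) (WittModel.X M) i (M.φ.comp σ) where
  up y := by
    constructor
    · rintro ⟨g, hg, rfl⟩
      obtain ⟨t, ht⟩ := (N.up g).1 hg
      exact ⟨t, congrArg M.φ ht⟩
    · rintro ⟨t, rfl⟩
      exact ⟨σ (U t), (N.up _).2 ⟨t, rfl⟩, rfl⟩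
  lo y := by
    constructor
    · rintro ⟨g, hg, rfl⟩
      obtain ⟨t, ht⟩ := (N.lo g).1 hg
      exact ⟨t, congrArg M.φ ht⟩
    · rintro ⟨t, rfl⟩
      exact ⟨σ (Lo t), (N.lo _).2 ⟨t, rfl⟩, rfl⟩
  tor s := ⟨σ (hh s), N.tor s, rfl⟩

theorem torus_map (hT : ∀ s ∈ (Tor Fr M.I).subgroupOf M.I, ∀ t ∈ (Tor Fr M.I).subgroupOf M.I, s * t = t * s) :
    ∀ s ∈ WittModel.T M, ∀ t ∈ WittModel.T M, s * t = t * s := by
  rintro _ ⟨s, hs, rfl⟩ _ ⟨t, ht, rfl⟩
  rw [← map_mul, ← map_mul, hT s hs t ht]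

end model

section comm

variable {F : Type*} [Field F] {V : Type*} [AddCommGroup V] [Module F V] {Q : QuadraticForm F V} {n : ℕ}
  {W : WFrame (PO Q) n}

theorem tr_eq_one (c : F) : (Frame.Adm.tr c : (toFrame W).Adm) = 1 := by
  apply Frame.Adm.ext
  · rfl
  · rw [Frame.Adm.tr_c]
    change c - (1 : F)⁻¹ * c = 0
    rw [inv_one, one_mul, sub_self]

theorem comm_X_X {a b : Fin n × Bool} (hab : a.1 ≠ b.1) (s t : F) :
    (toFrame W).X a b s * (toFrame W).X a (ng b) t = (toFrame W).X a (ng b) t * (toFrame W).X a b s := by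
  have e1 := (toFrame W).X_mul_X_same hab s t
  rw [tr_eq_one, (toFrame W).Z_one, one_mul] at e1
  exact e1

end comm

theorem ee_121 : ee (![1, 2, 1] : Fin 3 → ℤ) = wt ((0, true) : Fin 3 × Bool) + wt (1, true) := by
  decide

section cm

variable {F : Type*} [Field F] {V : Type*} [AddCommGroup V] [Module F V] {Q : QuadraticForm F V}
  {W : WFrame (PO Q) 3} {K : Type*} [Group K] (M : Model (toFrame W) K)

/-- the root groups of `e₁ + e₂` and `e₁ - e₂` commute -/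
theorem cm_model : ∀ x ∈ WittModel.X M ![1, 2, 1], ∀ y ∈ WittModel.X M (sr 0), x * y = y * x := by
  have hne : ((0, true) : Fin 3 × Bool).1 ≠ ((1, true) : Fin 3 × Bool).1 := by decide
  have hne' : ((0, true) : Fin 3 × Bool).1 ≠ ((1, false) : Fin 3 × Bool).1 := by decide
  rintro _ ⟨g, hg, rfl⟩ _ ⟨k, hk, rfl⟩
  have hg1 : g.1 ∈ WittRoot.rg (toFrame W) ![1, 2, 1] := hg
  have hk1 : k.1 ∈ WittRoot.rg (toFrame W) (sr 0) := hk
  rw [rg_eq (toFrame W) (a := (0, true)) (b := (1, true)) (Or.inl hne) ee_121, PG_ne _ hne] at hg1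
  rw [rg_eq (toFrame W) (a := (0, true)) (b := (1, false)) (Or.inl hne') (ee_sr 0), PG_ne _ hne'] at hk1
  obtain ⟨s, hs⟩ := hg1
  obtain ⟨t, ht⟩ := hk1
  have h1 : g * k = k * g := by
    apply Subtype.ext
    change g.1 * k.1 = k.1 * g.1
    rw [hs, ht]
    exact comm_X_X hne s t
  rw [← map_mul, ← map_mul, h1]

end cm

/-- **`PΩ_7(K)`** -/
theorem dat_odd {K : Type} [Field K] [Finite K] (h2 : (2 : K) ≠ 0) {r : ℕ} [Fact r.Prime] [CharP K r] :
    Dat3 (Cfsg.POmega K (Cfsg.quadFormOdd 3 K)) r (Nat.card K) (Nat.card K) := by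
  rw [← coe_oddForm]
  have hG : Good (oddForm 3 K) := by
    apply good_of_finite (nondeg_oddForm 3 K h2)
    rw [Module.finrank_fintype_fun_eq_card, Fintype.card_sum, Fintype.card_sum, Fintype.card_fin,
      Fintype.card_unit]
    omega
  have hp0 : ((embOdd 3 K).ngt ⟨1, -1 ^ 2, rfl⟩).c ≠ 0 := by
    change (1 : K)⁻¹ * (-1 ^ 2) ≠ 0
    simp
  have hWf : Finite (CoxeterMatrix.B 3).Group := TypeC.finite_W (CoxeterMatrix.B 3).toCoxeterSystem
  set M := model (wodd 3 K) hG ⟨_, hp0⟩ with hM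
  have hA : AmbT (toFrame (wodd 3 K)) r M.I := AmbT.of_amb (amb_O_of_two _ h2) r
  have R := rgdC_model M hA hp0 (CoxeterMatrix.B 3).toCoxeterSystem
  refine ⟨_, _, _, R, hWf, GG_of_G1 (WittModel.G1_eq_top _ (by norm_num) _), fun i hi => H742.card_X_of_lt M hi,
    fun i hi => (H742.card_X_last M (i := i) (by omega)).trans (by rw [H353.PanO.card_adm, H353.PanO.card_V0_odd]),
    torus_map M ?_, ?_, cm_model M⟩
  · intro s hs t ht
    exact Subtype.ext (Cfsg.Agent.H905.Md.torus_comm hA.V0 (kd_odd h2 3) (hA.iso _ s.2) (hA.iso _ t.2) hs.2 ht.2)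
  · intro i
    by_cases hi : (i : ℕ) + 1 < 3
    · obtain ⟨σ, N⟩ := nd_long (Fr := toFrame (wodd 3 K)) hA.rg_le hi
      exact ⟨K, inferInstance, inferInstance, inferInstance, _, nd_map M N⟩
    · obtain ⟨σ, N⟩ := nd_last_odd h2 (H48.OMult.span_odd K 3) hA.rg_le hi
      exact ⟨K, inferInstance, inferInstance, inferInstance, _, nd_map M N⟩

/-- **`PΩ⁻_8(K)`** -/
theorem dat_minus {K : Type} [Field K] [Finite K] {a b : K}
    (hab : ∀ z₁ z₂ : K, z₁ ^ 2 + a * z₁ * z₂ + b * z₂ ^ 2 = 0 → z₁ = 0 ∧ z₂ = 0) {r : ℕ} [Fact r.Prime]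
    [CharP K r] : Dat3 (Cfsg.POmega K (Cfsg.quadFormMinus 3 K a b)) r (Nat.card K) (Nat.card K ^ 2) := by
  rw [← coe_minusForm]
  have hG : Good (minusForm 3 K a b) := good_minus hab (by norm_num)
  have hWf : Finite (CoxeterMatrix.B 3).Group := TypeC.finite_W (CoxeterMatrix.B 3).toCoxeterSystem
  have hA := ambT_minus hab r (by norm_num) hG
  have R := rgdC_model (MM hab hG) hA (pc_ne hab) (CoxeterMatrix.B 3).toCoxeterSystem
  refine ⟨_, _, _, R, hWf, GG_of_G1 (WittModel.G1_eq_top _ (by norm_num) _),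
    fun i hi => H742.card_X_of_lt (MM hab hG) hi,
    fun i hi => (H742.card_X_last (MM hab hG) (i := i) (by omega)).trans
      (by rw [H353.PanO.card_adm, H353.PanO.card_V0_minus]),
    torus_map (MM hab hG) (torus_comm_minus hab hG (by norm_num) hA), ?_, cm_model (MM hab hG)⟩
  intro i
  obtain ⟨E, i1, i2, i3, σ, N, -⟩ := nodes hab hG hA i
  exact ⟨E, i1, i2, i3, _, nd_map (MM hab hG) N⟩

end Cfsg.Agent.H568.RIM
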