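import Cfsg.Agent.H568.RIM.Exc
import Cfsg.Agent.H46.RIM.Node

/-!
# The exceptional primes of the root group data of type `B_m`, `m ≥ 4` (S4816)

* `exists_cusp_node` : a cuspidal character of a rank one subgroup over a character of a central subgroup;
* `nb_excB` : the case `p ∣ |S : P_J|`, `J` all the nodes of `B_m` but the last but one, `m ≥ 4`;
* `nb_excB'` : in the form of the alternative of `H521/RIM/Arith` (`arith_odd`, `arith_minus`).
-/

set_option autoImplicit false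
set_option linter.unusedSectionVars false

open scoped ComplexConjugate

namespace Cfsg.Agent.H568.RIM

open Cfsg Cfsg.Agent.Characters CoxeterSystem Cfsg.Agent.ChevalleyStructure.CoxeterGeom Cfsg.Agent.Tits.Roots
  Cfsg.Agent.Tits.Core Cfsg.Agent.Tits.Exchange Cfsg.Agent.Nodes.Reps Cfsg.Agent.Nodes.BNOf Cfsg.Agent.Nodes.StabComb
  Cfsg.Agent.Nodes.Bruhat Cfsg.Agent.Nodes.OppDec Cfsg.Agent.Nodes.LeviDec Cfsg.Agent.Nodes.RGDLift Cfsg.Agent.H53.HC
open Cfsg.Agent.H665.RIM (NB)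
open Cfsg.Agent.H491.RIM (CuspOver)

universe u

/-- **Cuspidal characters of the rank one subgroups over a character of a central subgroup.** -/
theorem exists_cusp_node {I W Y : Type*} [Fintype I] [DecidableEq I] [Group W] [Group Y] {M : CoxeterMatrix I}
    {cs : CoxeterSystem M W} {A : I → I → ℤ} {h : IsCartan M A} {r : ℕ} {T : Subgroup Y} {n : I → Y}
    {X : (I → ℤ) → Subgroup Y} [Finite W] [Finite Y] (R : RGD cs h r T n X) (i : I) {Z : Subgroup Y}
    (hZ : Z ≤ Subgroup.center Y) (l : Z →* ℂˣ) : ∃ θ, CuspOver cs h X {i} Z l θ := by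
  obtain ⟨θ, h1, h2, h3⟩ := H46.RIM.exists_cus_one R i (Z ⊓ MJ cs h X ({i} : Set I)) inf_le_right
    (fun z hz g _ => (Subgroup.mem_center_iff.1 (hZ hz.1) g).symm) (l.comp (Subgroup.inclusion inf_le_left))
  exact ⟨θ, h1, fun z hz1 hz2 => h2 z ⟨hz2, hz1⟩, h3⟩

variable {W : Type*} {S : Type u} [Group W] [Group S] [Finite W] [Finite S] {r : ℕ} [Fact r.Prime]

theorem nb_excB {l : ℕ} {cs : CoxeterSystem (CoxeterMatrix.B (l + 2)) W} {A : Fin (l + 2) → Fin (l + 2) → ℤ}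
    {h : IsCartan (CoxeterMatrix.B (l + 2)) A} {T : Subgroup S} {n : Fin (l + 2) → S}
    {X : (Fin (l + 2) → ℤ) → Subgroup S} (hl : 2 ≤ l) (R : RGD cs h r T n X) (hG : GG cs h T X = ⊤) {p c : ℕ}
    (hc : ¬ r ∣ c) (hd : p ∣ (PJ cs h T X {j | j ≠ jj l}).index) : NB p c S :=
  nb_exc hl R hG hc (fun _ _ _ _ _ _ R' _ hZ _ l₀ => exists_cusp_node R' (Fin.last (l + 1)) hZ l₀)
    (by rw [J_eq]; exact hd)

/-- **The exceptional class of primes**, type `B_m`, `m ≥ 4`. -/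
theorem nb_excB' {m : ℕ} {cs : CoxeterSystem (CoxeterMatrix.B m) W} {A : Fin m → Fin m → ℤ}
    {h : IsCartan (CoxeterMatrix.B m) A} {T : Subgroup S} {n : Fin m → S}
    {X : (Fin m → ℤ) → Subgroup S} (hm : 4 ≤ m) (R : RGD cs h r T n X) (hG : GG cs h T X = ⊤) {p c : ℕ}
    (hc : ¬ r ∣ c)
    (hd : ∀ (J : Set (Fin m)) (j : Fin m), (j : ℕ) + 1 < m → j ∉ J → p ∣ (PJ cs h T X J).index) : NB p c S := by
  obtain ⟨l, rfl⟩ : ∃ l, m = l + 2 := ⟨m - 2, by omega⟩
  exact nb_excB (by omega) R hG hc (hd _ (jj l) (by rw [jj_val]; omega) fun hj => hj rfl)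

end Cfsg.Agent.H568.RIM
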